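import Cfsg.Agent.Lib.LyTwo.Code

/-! Checks of the tables of the group of order 64. -/
set_option autoImplicit false
set_option maxRecDepth 100000

namespace CfsgLib.LyTwo

open Cert

theorem parT_ok : ((List.range 64).all fun i => decide (i = 0) ||
    (decide ((parT.getD i (0, 0)).1 < i) && decide ((parT.getD i (0, 0)).2 < 4) &&
      stepC (parT.getD i (0, 0)).1 (parT.getD i (0, 0)).2 == i)) = true := by decide +kernel

theorem stepC_lt_ok : ((List.range 64).all fun i => (List.range 4).all fun j => decide (stepC i j < 64)) = true := by
  decide +kernel

theorem mul0_ok : ((List.range 64).all fun i => mul0 i 0 == i &&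
    (List.range 64).all fun k => decide (mul0 i k < 64) && (decide (k = 0) ||
      mul0 i k == stepC (mul0 i (parT.getD k (0, 0)).1) (parT.getD k (0, 0)).2)) = true := by decide +kernel

theorem phi_ok : (phi 0 == 0 && (List.range 64).all fun i => decide (phi i < 64) && (decide (i = 0) ||
    phi i == mul0 (phi (parT.getD i (0, 0)).1) (phiG.getD (parT.getD i (0, 0)).2 0))) = true := by decide +kernel

theorem gen0_ok : ((List.range 4).all fun j => gen0.getD j 0 == stepC 0 j) = true := by decide +kernel

theorem center0_ok : ((List.range 64).all fun c => (c == 0) || (c == tI) ||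
    gen0.any fun g => !(mul0 c g == mul0 g c)) = true := by decide +kernel

theorem count0_ok : (preds0.map fun p => (List.range 64).countP p) = [8, 8, 8] := by decide +kernel

theorem parity0_ok : (parityC 0 == 0 && (List.range 64).all fun i => decide (i = 0) ||
    (List.range 16).all fun v => (dotBits v (parityC i) ==
      xor (dotBits v (parityC (parT.getD i (0, 0)).1)) (v.testBit (parT.getD i (0, 0)).2))) = true := by
  decide +kernel

theorem generates0_ok : generates 64 mul0 parityC gen0 preds0 = true := by decide +kernel

end CfsgLib.LyTwo
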