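import Cfsg.Agent.Lib.LyTwo.Engine
import Cfsg.Agent.Lib.LyTwo.Code
import Cfsg.Agent.Lib.LyTwo.Shape

/-! Checks of the group of order 64 in seven dimensions. -/
set_option autoImplicit false
set_option maxRecDepth 100000

namespace CfsgLib.LyTwo

open Cert

theorem stepMat_ok : ((List.range 64).all fun i => (List.range 4).all fun j =>
    mulCheck 7 7 (small.getD i []) (smallGen j) (small.getD (stepC i j) [])) = true := by decide +kernel

/-- the entries of a block as residues -/
def residues (L : List ℕ) : List ℕ :=
  (List.range 7).flatMap fun i => (List.range 7).map fun j => ent L i j % 5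

theorem distinct_ok : ((List.range 64).all fun i => (List.range 64).all fun k =>
    decide (i = k) || !(Presented.listEq (residues (small.getD i [])) (residues (small.getD k [])))) = true := by
  decide +kernel

/-- the chain of partial products of a word is right and carries `t` to the stated involution -/
noncomputable def conjOk (c : ℕ × List ℕ × List (List ℕ)) : Bool :=
  decide (c.1 < 64) && decide (c.2.1.length = c.2.2.length) && decide (0 < c.2.1.length) &&
    c.2.1.all (fun x => decide (x < 8)) &&
    Presented.listEq (c.2.2.getD 0 []) (letters.getD (c.2.1.getD 0 0) []) &&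
    (List.range (c.2.1.length - 1)).all (fun k =>
      mulCheck 7 7 (c.2.2.getD k []) (letters.getD (c.2.1.getD (k + 1) 0) []) (c.2.2.getD (k + 1) []))

theorem conjs_ok : conjs.all conjOk = true := by decide +kernel

/-- both sides of the conjugation agree -/
def conjEq (c : ℕ × List ℕ × List (List ℕ)) : Bool :=
  let w := c.2.2.getD (c.2.2.length - 1) []
  (List.range 7).all fun i => (List.range 7).all fun j =>
    ((List.range 7).map fun k => ent w i k * ent (small.getD tI []) k j).sum % 5 ==
      ((List.range 7).map fun k => ent (small.getD c.1 []) i k * ent w k j).sum % 5

theorem conjEq_ok : conjs.all conjEq = true := by decide +kernel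

theorem genWords_ok : ((List.range 4).all fun j =>
    ((genWords.getD j []).all fun y => (conjs.map Prod.fst).contains y) &&
      (genWords.getD j []).foldl mul0 0 == gen0.getD j 0) = true := by decide +kernel

end CfsgLib.LyTwo
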