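import Cfsg.Agent.Lib.LyTwo.Code

/-! Checks of the tables of the group of order 256. -/
set_option autoImplicit false
set_option maxRecDepth 100000

namespace CfsgLib.LyTwo

open Cert

theorem psi_ok : (psi 0 == 0 && psi 64 == psiG.getD 4 0 &&
    ((List.range 64).all fun i => decide (i = 0) ||
      psi i == mul1 (psi (parT.getD i (0, 0)).1) (psiG.getD (parT.getD i (0, 0)).2 0) &&
      psi (64 + i) == mul1 (psi 64) (psi i)) &&
    (List.range 128).all fun c => decide (psi c < 128)) = true := by decide +kernel

theorem mulC_bounds : (decide (sqX < 64) && (phiG.all fun x => decide (x < 64)) &&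
    (psiG.all fun x => decide (x < 128))) = true := by decide +kernel

theorem center1_ok : ((List.range 256).all fun c => (c == 0) || (c == tI) ||
    gen1.any fun g => !(mulC c g == mulC g c)) = true := by decide +kernel

theorem pair_ok : (((List.range 256).all fun y => commT sI y && commT sI' y) &&
    (List.range 256).all fun c => (c == 0) || (c == tI) || (c == sI) || (c == sI') ||
      gen1.any fun g => !commT c g) = true := by decide +kernel

theorem count1_ok : (preds1.map fun p => (List.range 256).countP p) = [32, 32, 16] := by decide +kernel

theorem outWord_ok : ((Cert.outWord.all fun x => decide (x < 64) || decide (x = 128)) &&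
    Cert.outWord.foldl mulC 0 == 64) = true := by decide +kernel

theorem generates1_ok : generates 256 mulC parityC gen1 preds1 = true := by decide +kernel

end CfsgLib.LyTwo
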